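import Mathlib.AlgebraicGeometry.Limits
import Mathlib.AlgebraicGeometry.PullbackCarrier
import Mathlib.AlgebraicGeometry.ResidueField
import Mathlib.AlgebraicGeometry.Morphisms.IsIso
import Mathlib.AlgebraicGeometry.Morphisms.Preimmersion
import Mathlib.Algebra.Category.Ring.Epi
import Mathlib.LinearAlgebra.Dual.Lemmas

/-!
# Monomorphisms into disjoint unions of spectra of fields
-/

set_option autoImplicit false
set_option backward.isDefEq.respectTransparency false
set_option linter.style.haveILetI false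
universe u

open CategoryTheory CategoryTheory.Limits AlgebraicGeometry TensorProduct

namespace Groth.Agent.Mono13

/-- An epimorphism from a field to a nontrivial ring is surjective. -/
theorem surjective_algebraMap_of_isEpi (k K : Type u) [Field k] [CommRing K] [Nontrivial K]
    [Algebra k K] [Algebra.IsEpi k K] : Function.Surjective (algebraMap k K) := by
  by_contra h
  obtain ⟨a, ha⟩ : ∃ a, a ∉ LinearMap.range (Algebra.linearMap k K) := by
    simpa [Function.Surjective, LinearMap.mem_range] using h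
  obtain ⟨φ, hφa, hφ⟩ := Submodule.exists_dual_map_eq_bot_of_notMem ha inferInstance
  have h1 : φ 1 = 0 := by
    have : φ 1 ∈ (LinearMap.range (Algebra.linearMap k K)).map φ :=
      ⟨1, ⟨1, by simp⟩, rfl⟩
    rw [hφ] at this
    simpa using this
  let ψ : K ⊗[k] K →ₗ[k] K := TensorProduct.lift
    (LinearMap.mk₂ k (fun x y => φ x • y) (by intros; simp [add_smul]) (by intros; simp [smul_smul])
      (by intros; simp [smul_add]) (by intros; rw [smul_comm]))
  have h2 := congrArg ψ ((Algebra.isEpi_iff_forall_one_tmul_eq k K).1 inferInstance a)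
  have h3 : φ 1 • a = φ a • (1 : K) := by simpa [ψ] using h2
  rw [h1, zero_smul] at h3
  exact hφa ((smul_eq_zero.1 h3.symm).resolve_right one_ne_zero)

/-- A monomorphism to the spectrum of a field has a section as soon as the source is nonempty. -/
theorem exists_section {k : Type u} [Field k] {X : Scheme.{u}} (f : X ⟶ Spec (CommRingCat.of k))
    [Mono f] (x : X) : ∃ s : Spec (CommRingCat.of k) ⟶ X, s ≫ f = 𝟙 _ := by
  let g := X.fromSpecResidueField x ≫ f
  let φ := Spec.preimage g
  have hg : Spec.map φ = g := Spec.map_preimage g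
  haveI : Epi φ := ⟨fun a b h => Spec.map_injective ((cancel_mono g).1 (by
    rw [← hg, ← Spec.map_comp, ← Spec.map_comp, h]))⟩
  let A : Type u := ↑(X.residueField x)
  letI : Algebra k A := φ.hom.toAlgebra
  haveI : Algebra.IsEpi k A := CommRingCat.epi_iff_epi.1 ‹Epi φ›
  have hsurj : Function.Surjective φ := surjective_algebraMap_of_isEpi k A
  haveI : IsIso φ := by
    rw [ConcreteCategory.isIso_iff_bijective]
    exact ⟨φ.hom.injective, hsurj⟩
  exact ⟨inv (Spec.map φ) ≫ X.fromSpecResidueField x, by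
    rw [Category.assoc, IsIso.inv_comp_eq, Category.comp_id, hg]⟩

variable {ι : Type u} (k : ι → Type u) [∀ i, Field (k i)]

/-- A monomorphism into a disjoint union of spectra of fields is a partial disjoint union. -/
theorem exists_iso_sigma {Y : Scheme.{u}} (f : Y ⟶ ∐ fun i => Spec (CommRingCat.of (k i))) [Mono f] :
    ∃ (J : Set ι) (e : Y ≅ ∐ fun j : J => Spec (CommRingCat.of (k j.1))),
      e.hom ≫ Sigma.desc (fun j : J => Sigma.ι (fun i => Spec (CommRingCat.of (k i))) j.1) = f := by
  classical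
  let S : ι → Scheme.{u} := fun i => Spec (CommRingCat.of (k i))
  let J : Set ι := {i | ∃ (y : Y) (z : S i), Sigma.ι S i z = f y}
  have hsec : ∀ j : J, ∃ g : S j.1 ⟶ Y, g ≫ f = Sigma.ι S j.1 := by
    rintro ⟨i, y, z, h⟩
    obtain ⟨p, -, -⟩ := Scheme.Pullback.exists_preimage_pullback (f := f) (g := Sigma.ι S i) y z h.symm
    obtain ⟨s, hs⟩ := exists_section (k := k i) (pullback.snd f (Sigma.ι S i)) p
    exact ⟨s ≫ pullback.fst _ _, by rw [Category.assoc, pullback.condition, reassoc_of% hs]⟩
  choose g hg using hsec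
  let incl := Sigma.desc (fun j : J => Sigma.ι S j.1)
  haveI : IsOpenImmersion incl := isOpenImmersion_sigmaDesc _ _ (fun a b hab => by
    have h2 := disjoint_opensRange_sigmaι S a.1 b.1 (fun h => hab (Subtype.ext h))
    simp only [Function.onFun]
    rw [Set.disjoint_iff]
    rintro x ⟨hxa, hxb⟩
    exact (h2.le_bot ⟨hxa, hxb⟩).elim)
  have hG : Sigma.desc g ≫ f = incl := Sigma.hom_ext _ _ fun j => by simp [incl, hg]
  let l := pullback.lift (f := f) (g := incl) (Sigma.desc g) (𝟙 _) (by rw [hG, Category.id_comp])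
  have hl : l ≫ pullback.snd f incl = 𝟙 _ := pullback.lift_snd _ _ _
  haveI : IsIso l := ⟨pullback.snd f incl, hl, by
    rw [← cancel_mono (pullback.snd f incl), Category.assoc, hl, Category.comp_id, Category.id_comp]⟩
  haveI : IsOpenImmersion (Sigma.desc g) := by
    rw [← pullback.lift_fst (f := f) (g := incl) (Sigma.desc g) (𝟙 _) (by rw [hG, Category.id_comp])]
    infer_instance
  haveI : Surjective (Sigma.desc g) := ⟨fun y => by
    obtain ⟨⟨i, z⟩, hz⟩ := (sigmaMk S).surjective (f y)
    rw [sigmaMk_mk] at hz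
    have hi : i ∈ J := ⟨y, z, hz⟩
    let P := pullback f (Sigma.ι S i)
    obtain ⟨p, hp1, -⟩ := Scheme.Pullback.exists_preimage_pullback (f := f) (g := Sigma.ι S i) y z hz.symm
    let q : S i ⟶ P := pullback.lift (g ⟨i, hi⟩) (𝟙 _) (by rw [hg ⟨i, hi⟩, Category.id_comp])
    have hq : pullback.snd f (Sigma.ι S i) ≫ q = 𝟙 _ := by
      rw [← cancel_mono (pullback.snd f (Sigma.ι S i)), Category.assoc, pullback.lift_snd,
        Category.comp_id, Category.id_comp]
    have hp : q (pullback.snd f (Sigma.ι S i) p) = p := by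
      rw [← Scheme.Hom.comp_apply, hq]; rfl
    refine ⟨Sigma.ι (fun j : J => S j.1) ⟨i, hi⟩ (pullback.snd f (Sigma.ι S i) p), ?_⟩
    rw [← Scheme.Hom.comp_apply, Sigma.ι_desc, ← hp1]
    conv_rhs => rw [← hp, ← Scheme.Hom.comp_apply, pullback.lift_fst]⟩
  haveI : IsIso (Sigma.desc g) := (isIso_iff_isOpenImmersion_and_surjective _).mpr ⟨inferInstance, inferInstance⟩
  exact ⟨J, (asIso (Sigma.desc g)).symm, by
    simp only [Iso.symm_hom, asIso_inv, IsIso.inv_comp_eq]; exact hG.symm⟩

/-- A monomorphism into the spectrum of a finite product of fields is a partial product. -/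
theorem exists_iso_Spec_pi [Finite ι] {X : Scheme.{u}} (f : X ⟶ Spec (CommRingCat.of (Π i, k i))) [Mono f] :
    ∃ (I : Set ι) (e : X ≅ Spec (CommRingCat.of (Π i : I, k i))),
      e.hom ≫ Spec.map (CommRingCat.ofHom (Pi.ringHom fun i : I => Pi.evalRingHom k i.1)) = f := by
  let R : ι → CommRingCat.{u} := fun i => CommRingCat.of (k i)
  let f' : X ⟶ ∐ fun i => Spec (CommRingCat.of (k i)) := f ≫ inv (sigmaSpec R)
  haveI : Mono f' := inferInstanceAs (Mono (f ≫ inv (sigmaSpec R)))
  obtain ⟨J, e, he⟩ := exists_iso_sigma k f'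
  let RJ : J → CommRingCat.{u} := fun j => R j.1
  refine ⟨J, e ≪≫ asIso (sigmaSpec RJ), ?_⟩
  have key : sigmaSpec RJ ≫ Spec.map (CommRingCat.ofHom (Pi.ringHom fun i : J => Pi.evalRingHom k i.1))
      = Sigma.desc (fun j : J => Sigma.ι (fun i => Spec (CommRingCat.of (k i))) j.1) ≫ sigmaSpec R := by
    refine Sigma.hom_ext _ _ fun j => ?_
    rw [ι_sigmaSpec_assoc, Sigma.ι_desc_assoc, ι_sigmaSpec, ← Spec.map_comp]
    rfl
  rw [Iso.trans_hom, asIso_hom, Category.assoc]
  erw [key, ← Category.assoc, he]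
  simp [f']

end Groth.Agent.Mono13
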